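import Groth.Agent.SchLocX.Basic
import Groth.Agent.S2243

/-!
Local immersions out of irreducible schemes.
-/

universe u

open AlgebraicGeometry CategoryTheory CategoryTheory.Limits

namespace Groth.Agent.SchLocX

variable {X Y : Scheme.{u}}

lemma exists_nhds_range_eq [IrreducibleSpace X] (f : X ⟶ Y) [IsDominant f]
    (hf : SchLoc.IsLocalImmersion f) (x : X) :
    ∃ (U : X.Opens) (V : Y.Opens) (h : U ≤ f ⁻¹ᵁ V), x ∈ U ∧ IsClosedImmersion (f.resLE V U h) ∧
      f '' (U : Set X) = (V : Set Y) := by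
  obtain ⟨U, V, h, hx, hci⟩ := hf x
  refine ⟨U, V, h, hx, hci, subset_antisymm (Set.image_subset_iff.mpr h) fun v hv => ?_⟩
  obtain ⟨C, hC, hCeq⟩ := isClosed_induced_iff.mp (f.resLE V U h).isClosedEmbedding.isClosed_range
  have hUC : f '' (U : Set X) ⊆ C := by
    rintro _ ⟨y, hy, rfl⟩
    have h' : f.resLE V U h ⟨y, hy⟩ ∈ Subtype.val ⁻¹' C := hCeq ▸ Set.mem_range_self _
    change (V.ι (f.resLE V U h ⟨y, hy⟩)) ∈ C at h'
    rwa [← Scheme.Hom.comp_apply, Scheme.Hom.resLE_comp_ι] at h'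
  have hd : Dense (f '' (U : Set X)) :=
    (f.denseRange).dense_image f.continuous (U.2.dense ⟨x, hx⟩)
  have hCu : C = Set.univ := by rw [← hC.closure_eq]; exact (hd.mono hUC).closure_eq
  have hvC : (⟨v, hv⟩ : (V : Y.Opens)) ∈ Set.range (f.resLE V U h) := by
    rw [← hCeq, hCu]; trivial
  obtain ⟨⟨y, hy⟩, hyv⟩ := hvC
  refine ⟨y, hy, ?_⟩
  have := congrArg V.ι hyv
  rw [← Scheme.Hom.comp_apply, Scheme.Hom.resLE_comp_ι] at this
  exact this

lemma isImmersion_of_injective [IrreducibleSpace X] (f : X ⟶ Y) [IsDominant f]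
    (hf : SchLoc.IsLocalImmersion f) (hi : Function.Injective f.base) :
    IsImmersion f ∧ IsOpen (Set.range f.base) := by
  choose U V h hx hci hUV using exists_nhds_range_eq f hf
  have hopen : IsOpen (Set.range f.base) := by
    have : Set.range f.base = ⋃ x, (V x : Set Y) := by
      ext y
      constructor
      · rintro ⟨x, rfl⟩
        exact Set.mem_iUnion.mpr ⟨x, h x (hx x)⟩
      · intro hy
        obtain ⟨x, hy⟩ := Set.mem_iUnion.mp hy
        rw [← hUV x] at hy
        obtain ⟨z, -, rfl⟩ := hy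
        exact ⟨z, rfl⟩
    rw [this]
    exact isOpen_iUnion fun x => (V x).2
  have hUeq : ∀ x, f ⁻¹ᵁ V x = U x := fun x => le_antisymm (fun y hy => by
    obtain ⟨z, hz, hzy⟩ : f y ∈ f '' (U x : Set X) := by rw [hUV x]; exact hy
    exact hi hzy ▸ hz) (h x)
  have hloc : ∀ x, IsImmersion (f ∣_ V x) := fun x => by
    have := hci x
    have e : f.resLE (V x) (U x) (h x) = X.homOfLE (h x) ≫ f ∣_ V x := rfl
    have : IsIso (X.homOfLE (h x)) := by
      have := hUeq x
      generalize h x = h'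
      revert h'
      rw [← this]
      intro h'
      rw [Subsingleton.elim h' le_rfl, Scheme.homOfLE_rfl]
      infer_instance
    have hh : IsImmersion (X.homOfLE (h x) ≫ f ∣_ V x) := e ▸ inferInstance
    exact (MorphismProperty.cancel_left_of_respectsIso @IsImmersion _ _).mp hh
  refine ⟨?_, hopen⟩
  let W : Y.Opens := ⨆ x, V x
  have hW : f ⁻¹ᵁ W = ⊤ := eq_top_iff.mpr fun x _ =>
    (TopologicalSpace.Opens.mem_iSup.mpr ⟨x, h x (hx x)⟩ : f x ∈ W)
  have : IsImmersion (f ∣_ W) := by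
    rw [IsZariskiLocalAtTarget.iff_of_iSup_eq_top (P := @IsImmersion) (fun x => W.ι ⁻¹ᵁ V x)
      (by rw [← Scheme.Hom.preimage_iSup, Scheme.Opens.ι_preimage_self])]
    intro x
    rw [MorphismProperty.arrow_mk_iso_iff @IsImmersion (morphismRestrictRestrict f W (W.ι ⁻¹ᵁ V x))]
    have : W.ι ''ᵁ W.ι ⁻¹ᵁ V x = V x := by
      rw [Scheme.Hom.image_preimage_eq_opensRange_inf, Scheme.Opens.opensRange_ι]
      exact inf_eq_right.mpr (le_iSup V x)
    rw [this]
    exact hloc x
  have : IsImmersion ((f ∣_ W) ≫ W.ι) := inferInstance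
  rwa [morphismRestrict_ι, hW, ← Scheme.topIso_hom,
    MorphismProperty.cancel_left_of_respectsIso (P := @IsImmersion)] at this

lemma isLocalImmersion_of_isLocalIso (f : X ⟶ Y) (hf : SchLoc.IsLocalIso f) :
    SchLoc.IsLocalImmersion f := fun x => by
  obtain ⟨U, hx, hU⟩ := hf x
  exact (isLocalImmersionAt_iff f x).mpr ⟨U, hx, inferInstance⟩

lemma isOpenImmersion_of_isLocalIso [IrreducibleSpace X] (f : X ⟶ Y) [IsSeparated f]
    (hf : SchLoc.IsLocalIso f) : IsOpenImmersion f := by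
  have : IsImmersion f := Groth.Agent.S2243.result f (isLocalImmersion_of_isLocalIso f hf)
  choose U hx hU using hf
  have hopen : IsOpenMap f := by
    intro O hO
    have : f '' O = ⋃ x, ((U x).ι ≫ f) '' ((U x).ι ⁻¹' O) := by
      ext y
      constructor
      · rintro ⟨z, hz, rfl⟩
        exact Set.mem_iUnion.mpr ⟨z, ⟨z, hx z⟩, hz, rfl⟩
      · intro hy
        obtain ⟨x, z, hz, rfl⟩ := Set.mem_iUnion.mp hy
        exact ⟨(U x).ι z, hz, rfl⟩
    rw [this]
    exact isOpen_iUnion fun x => by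
      haveI := hU x
      exact ((U x).ι ≫ f).isOpenEmbedding.isOpenMap _ (hO.preimage (U x).ι.continuous)
  haveI : ∀ x, IsIso (f.stalkMap x) := fun x => by
    haveI := hU x
    have h1 : IsIso (((U x).ι ≫ f).stalkMap ⟨x, hx x⟩) := inferInstance
    rw [Scheme.Hom.stalkMap_comp] at h1
    haveI := h1
    haveI h2 : IsIso ((U x).ι.stalkMap ⟨x, hx x⟩) :=
      (IsOpenImmersion.iff_isIso_stalkMap.mp (inferInstance : IsOpenImmersion (U x).ι)).2 _
    exact @IsIso.of_isIso_comp_right _ _ _ _ _ _ _ h2 h1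
  exact IsOpenImmersion.of_isIso_stalkMap f
    (Topology.IsOpenEmbedding.of_continuous_injective_isOpenMap f.continuous f.isEmbedding.injective hopen)

end Groth.Agent.SchLocX
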