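import Groth.Prelude.Def_SchLoc
import Mathlib.AlgebraicGeometry.Morphisms.Separated
import Mathlib.AlgebraicGeometry.Morphisms.Immersion
import Mathlib.AlgebraicGeometry.FunctionField

/-!
Basic facts on local immersions.
-/

universe u

open AlgebraicGeometry CategoryTheory CategoryTheory.Limits

namespace Groth.Agent.SchLocX

variable {X Y Z : Scheme.{u}}

lemma isLocalImmersionAt_iff (f : X ⟶ Y) (x : X) :
    SchLoc.IsLocalImmersionAt f x ↔ ∃ U : X.Opens, x ∈ U ∧ IsImmersion (U.ι ≫ f) := by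
  constructor
  · rintro ⟨U, V, h, hx, hci⟩
    refine ⟨U, hx, ?_⟩
    rw [← Scheme.Hom.resLE_comp_ι f h]
    infer_instance
  · rintro ⟨U, hx, hi⟩
    let g := U.ι ≫ f
    have hle : U ≤ f ⁻¹ᵁ g.coborderRange := fun y hy =>
      subset_coborder (Set.mem_range_self (f := g.base) ⟨y, hy⟩)
    refine ⟨U, g.coborderRange, hle, hx, ?_⟩
    have : f.resLE g.coborderRange U hle = g.liftCoborder := by
      rw [← cancel_mono g.coborderRange.ι, Scheme.Hom.resLE_comp_ι, Scheme.Hom.liftCoborder_ι]
    rw [this]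
    infer_instance

lemma isImmersion_restrict_of_le (f : X ⟶ Y) {U' U : X.Opens} (h : U' ≤ U)
    [IsImmersion (U.ι ≫ f)] : IsImmersion (U'.ι ≫ f) := by
  rw [← X.homOfLE_ι h, Category.assoc]
  infer_instance

lemma comp (f : X ⟶ Y) (g : Y ⟶ Z) (hf : SchLoc.IsLocalImmersion f)
    (hg : SchLoc.IsLocalImmersion g) : SchLoc.IsLocalImmersion (f ≫ g) := by
  intro x
  obtain ⟨U, hxU, hU⟩ := (isLocalImmersionAt_iff f x).mp (hf x)
  obtain ⟨V, hxV, hV⟩ := (isLocalImmersionAt_iff g (f x)).mp (hg (f x))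
  refine (isLocalImmersionAt_iff _ x).mpr ⟨U ⊓ f ⁻¹ᵁ V, ⟨hxU, hxV⟩, ?_⟩
  have h := isImmersion_restrict_of_le f (inf_le_left : U ⊓ f ⁻¹ᵁ V ≤ U)
  have e : f.resLE V (U ⊓ f ⁻¹ᵁ V) inf_le_right ≫ V.ι = (U ⊓ f ⁻¹ᵁ V).ι ≫ f :=
    Scheme.Hom.resLE_comp_ι _ _
  have : IsImmersion (f.resLE V (U ⊓ f ⁻¹ᵁ V) inf_le_right ≫ V.ι) := e ▸ h
  have := IsImmersion.of_comp (f.resLE V (U ⊓ f ⁻¹ᵁ V) inf_le_right) V.ι
  rw [← Category.assoc, ← e, Category.assoc]
  infer_instance

lemma of_comp (f : X ⟶ Y) (g : Y ⟶ Z) (h : SchLoc.IsLocalImmersion (f ≫ g)) :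
    SchLoc.IsLocalImmersion f := by
  intro x
  obtain ⟨U, hxU, hU⟩ := (isLocalImmersionAt_iff _ x).mp (h x)
  refine (isLocalImmersionAt_iff _ x).mpr ⟨U, hxU, ?_⟩
  have : IsImmersion ((U.ι ≫ f) ≫ g) := by rwa [Category.assoc]
  exact IsImmersion.of_comp _ g

lemma baseChange {S S' : Scheme.{u}} (f : X ⟶ S) (g : S' ⟶ S)
    (hf : SchLoc.IsLocalImmersion f) : SchLoc.IsLocalImmersion (pullback.snd f g) := by
  intro z
  obtain ⟨U, hxU, hU⟩ := (isLocalImmersionAt_iff f _).mp (hf (pullback.fst f g z))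
  refine (isLocalImmersionAt_iff _ z).mpr ⟨pullback.fst f g ⁻¹ᵁ U, hxU, ?_⟩
  have h := (isPullback_morphismRestrict (pullback.fst f g) U).paste_vert
    (IsPullback.of_hasPullback f g)
  exact MorphismProperty.of_isPullback h hU

/-- A ring map into a local ring dominated by it gives a morphism from its spectrum. -/
lemma eq_fromSpecStalk_comp [IsIntegral X] [X.IsSeparated] {x y : X}
    (φ : X.presheaf.stalk x ⟶ X.presheaf.stalk y)
    (hφ : φ ≫ X.presheaf.stalkSpecializes ((genericPoint_spec X).specializes (Set.mem_univ y)) =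
      X.presheaf.stalkSpecializes ((genericPoint_spec X).specializes (Set.mem_univ x))) :
    Spec.map φ ≫ X.fromSpecStalk x = X.fromSpecStalk y := by
  let s : X.presheaf.stalk y ⟶ X.functionField :=
    X.presheaf.stalkSpecializes ((genericPoint_spec X).specializes (Set.mem_univ y))
  have hs : Function.Injective s.hom := IsFractionRing.injective (X.presheaf.stalk y) X.functionField
  haveI : IsDominant (Spec.map s) := ⟨PrimeSpectrum.denseRange_comap_iff_ker_le_nilRadical _ |>.mpr (by
    rw [(RingHom.injective_iff_ker_eq_bot _).mp hs]; exact bot_le)⟩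
  refine ext_of_isDominant (Spec.map s) ?_
  rw [← Spec.map_comp_assoc, hφ, Scheme.SpecMap_stalkSpecializes_fromSpecStalk,
    Scheme.SpecMap_stalkSpecializes_fromSpecStalk]

/-- In a separated integral scheme `y ⤳ x` iff the local ring at `x` is contained in the local ring at `y`. -/
lemma specializes_iff_range_le [IsIntegral X] [X.IsSeparated] (x y : X) :
    y ⤳ x ↔ (algebraMap (X.presheaf.stalk x) X.functionField).range ≤
      (algebraMap (X.presheaf.stalk y) X.functionField).range := by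
  constructor
  · intro h
    rintro _ ⟨a, rfl⟩
    refine ⟨X.presheaf.stalkSpecializes h a, ?_⟩
    exact DFunLike.congr_fun (congrArg CommRingCat.Hom.hom
      (X.presheaf.stalkSpecializes_comp ((genericPoint_spec X).specializes (Set.mem_univ y)) h)) a
  · intro h
    have hy : Function.Injective (algebraMap (X.presheaf.stalk y) X.functionField) :=
      IsFractionRing.injective _ _
    let e : X.presheaf.stalk y ≃+* (algebraMap (X.presheaf.stalk y) X.functionField).range :=
      RingEquiv.ofBijective _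
        ⟨fun p q h => hy (congrArg Subtype.val h), RingHom.rangeRestrict_surjective _⟩
    let φ : X.presheaf.stalk x ⟶ X.presheaf.stalk y := CommRingCat.ofHom
      (e.symm.toRingHom.comp ((Subring.inclusion h).comp
        (algebraMap (X.presheaf.stalk x) X.functionField).rangeRestrict))
    have := eq_fromSpecStalk_comp φ (by
      ext a
      exact congrArg Subtype.val (e.apply_symm_apply
        ⟨algebraMap (X.presheaf.stalk x) X.functionField a, h ⟨a, rfl⟩⟩))
    have hmem : y ∈ Set.range (X.fromSpecStalk x) := by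
      refine ⟨Spec.map φ (IsLocalRing.closedPoint _), ?_⟩
      rw [← Scheme.Hom.comp_apply, this, Scheme.fromSpecStalk_closedPoint]
    rwa [Scheme.range_fromSpecStalk] at hmem

end Groth.Agent.SchLocX
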